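import Mathlib

/-! Smooth augmented algebras generated by finitely many elements of the augmentation ideal. -/

set_option autoImplicit false

universe u v

open MvPolynomial

namespace SmoothConeLib

/-- A rank function on a fine sharp monoid. -/
theorem exists_rank (N : Type*) [AddCommMonoid N] [AddMonoid.FG N] [IsCancelAdd N]
    (hsharp : ∀ n : N, IsAddUnit n → n = 0) :
    ∃ L : N → ℕ, ∀ a b : N, b ≠ 0 → L a < L (a + b) := by
  classical
  obtain ⟨S0, hS0⟩ := (AddMonoid.fg_def.1 ‹AddMonoid.FG N›)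
  let S := S0.erase 0
  let φ : ({x // x ∈ S} →₀ ℕ) →+ N := Finsupp.liftAddHom fun s => multiplesHom N (s : N)
  have hφ : ∀ s k, φ (Finsupp.single s k) = k • (s : N) := fun s k => by simp [φ]
  have hsur : Function.Surjective φ := by
    intro n
    have hn : n ∈ AddSubmonoid.closure (S0 : Set N) := by rw [hS0]; trivial
    induction hn using AddSubmonoid.closure_induction with
    | mem x hx =>
      rcases eq_or_ne x 0 with rfl | h
      · exact ⟨0, map_zero _⟩
      · exact ⟨Finsupp.single ⟨x, Finset.mem_erase.2 ⟨h, hx⟩⟩ 1, by rw [hφ, one_smul]⟩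
    | zero => exact ⟨0, map_zero _⟩
    | add x y _ _ hx hy =>
      obtain ⟨a, rfl⟩ := hx; obtain ⟨b, rfl⟩ := hy
      exact ⟨a + b, map_add _ _ _⟩
  have hz : ∀ e, φ e = 0 → e = 0 := by
    intro e he
    ext s
    rw [Finsupp.zero_apply]
    by_contra hes
    have hd : e = Finsupp.single s 1 + (e - Finsupp.single s 1) :=
      (add_tsub_cancel_of_le (Finsupp.single_le_iff.2 (Nat.one_le_iff_ne_zero.2 hes))).symm
    rw [hd, map_add, hφ, one_smul] at he
    exact (Finset.mem_erase.1 s.2).1 (hsharp _ (IsAddUnit.of_add_eq_zero _ he))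
  have hanti : ∀ n, IsAntichain (· ≤ ·) {e | φ e = n} := fun n e he e' he' hne hle => by
    have hd : e' = e + (e' - e) := (add_tsub_cancel_of_le hle).symm
    have h2 : φ e' = n := he'
    rw [hd, map_add, he] at h2
    exact hne (by rw [hd, hz _ (add_eq_left.1 h2), add_zero])
  have hfin : ∀ n, {e | φ e = n}.Finite := fun n =>
    (hanti n).finite_of_partiallyWellOrderedOn (Set.isPWO_of_wellQuasiOrderedLE _)
  refine ⟨fun n => (hfin n).toFinset.sup Finsupp.degree, fun a b hb => ?_⟩
  obtain ⟨eb, rfl⟩ := hsur b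
  obtain ⟨e0, he0⟩ := hsur a
  obtain ⟨e, he, hsup⟩ := (hfin a).toFinset.exists_mem_eq_sup ⟨e0, (hfin a).mem_toFinset.2 he0⟩ Finsupp.degree
  show (hfin a).toFinset.sup Finsupp.degree < _
  rw [hsup]
  rw [Set.Finite.mem_toFinset] at he
  refine lt_of_lt_of_le ?_ (Finset.le_sup (f := Finsupp.degree) (b := e + eb) ?_)
  · rw [map_add]
    refine Nat.lt_add_of_pos_right (Nat.pos_of_ne_zero fun h => hb ?_)
    rw [(Finsupp.degree_eq_zero_iff eb).1 h, map_zero]
  · rw [Set.Finite.mem_toFinset]
    show φ (e + eb) = a + φ eb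
    rw [map_add, he]

variable {R : Type u} [CommRing R] {A0 : Type u} [CommRing A0] [Algebra R A0] {A : Type u} [CommRing A]
  [Algebra R A] [Algebra A0 A] [IsScalarTower R A0 A] (ρ : A →ₐ[A0] A0) {T : Type u} [Fintype T] (t : T → A)

omit [Algebra R A0] [Algebra R A] [IsScalarTower R A0 A] [Fintype T] in
theorem sub_mem_ker (a : A) : a - algebraMap A0 A (ρ a) ∈ RingHom.ker ρ := by
  rw [RingHom.mem_ker, map_sub, AlgHom.commutes, Algebra.algebraMap_self, RingHom.id_apply, sub_self]

omit [Algebra R A0] [Algebra R A] [IsScalarTower R A0 A] in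
/-- Constant and linear part. -/
theorem sub_linear_mem (ht : ∀ i, ρ (t i) = 0) (f : MvPolynomial T A0) :
    aeval t f - (algebraMap A0 A (constantCoeff f) + ∑ i, f.coeff (Finsupp.single i 1) • t i) ∈
      RingHom.ker ρ ^ 2 := by
  classical
  induction f using MvPolynomial.induction_on' with
  | add p q hp hq =>
    have := add_mem hp hq
    simp only [map_add, coeff_add, add_smul, Finset.sum_add_distrib] at this ⊢
    convert this using 1
    ring
  | monomial e c =>
    rcases Nat.lt_or_ge (Finsupp.degree e) 2 with h | h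
    · rcases Nat.lt_or_ge (Finsupp.degree e) 1 with h0 | h0
      · obtain rfl := (Finsupp.degree_eq_zero_iff e).1 (by omega)
        simp [coeff_monomial, Finset.sum_eq_zero, eq_comm (a := (0 : T →₀ ℕ)), Finsupp.single_eq_zero]
      · obtain ⟨j, rfl⟩ := (Finsupp.sum_eq_one_iff e).1 (show e.sum (fun _ n => n) = 1 by
          rw [show e.sum (fun _ n => n) = Finsupp.degree e from rfl]; omega)
        rw [constantCoeff_monomial, if_neg (by simp [Finsupp.single_eq_zero]), map_zero, zero_add,
          Finset.sum_eq_single j (fun b _ hb => by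
            rw [coeff_monomial, if_neg (fun h' => hb (Finsupp.single_left_injective one_ne_zero h').symm), zero_smul])
            (fun h' => absurd (Finset.mem_univ j) h'),
          coeff_monomial, if_pos rfl, aeval_monomial, Finsupp.prod_single_index (by simp), pow_one, Algebra.smul_def,
          sub_self]
        exact zero_mem _
    · have h1 : ∀ i, Finsupp.single i 1 ≠ e := fun i hi => by rw [← hi, Finsupp.degree_single] at h; omega
      have h0 : e ≠ 0 := fun he => by rw [he, map_zero] at h; omega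
      rw [constantCoeff_monomial, if_neg h0, map_zero, zero_add, Finset.sum_eq_zero fun i _ => ?_, sub_zero]
      swap
      · rw [coeff_monomial, if_neg (fun h' => h1 i h'.symm), zero_smul]
      rw [aeval_monomial]
      refine Ideal.mul_mem_left _ _ (Ideal.pow_le_pow_right (I := RingHom.ker ρ) h ?_)
      rw [Finsupp.prod, show Finsupp.degree e = ∑ i ∈ e.support, e i from rfl, ← Finset.prod_pow_eq_pow_sum]
      exact Ideal.prod_mem_prod fun i _ => Ideal.pow_mem_pow (show t i ∈ RingHom.ker ρ from ht i) _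

/-- Splitting of the cotangent module. -/
theorem exists_split [Algebra.FormallySmooth R A] (ht : ∀ i, ρ (t i) = 0)
    (hsurj : Function.Surjective (aeval (R := A0) t)) :
    ∃ σ : A →ₗ[A0] (T → A0), (∀ x ∈ RingHom.ker ρ ^ 2, σ x = 0) ∧
      ∀ x ∈ RingHom.ker ρ, x - ∑ i, σ x i • t i ∈ RingHom.ker ρ ^ 2 := by
  classical
  set m := RingHom.ker ρ with hm
  set V := idealOfVars T A0 with hV
  let π : MvPolynomial T A0 →ₐ[R] A := (aeval (R := A0) t).restrictScalars R
  have hπ : Function.Surjective π := hsurj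
  have hπV : ∀ f ∈ V, π f ∈ m := fun f hf => by
    refine (Ideal.span_le (I := Ideal.comap π m)).2 ?_ hf
    rintro _ ⟨i, rfl⟩
    show aeval t (X i) ∈ m
    rw [aeval_X]
    exact ht i
  let K : Ideal (MvPolynomial T A0 ⧸ V ^ 2) :=
    (Ideal.comap π (m ^ 2)).map (Ideal.Quotient.mkₐ R (V ^ 2))
  have hρπ : ∀ f, ρ (π f) = constantCoeff f := fun f => by
    have h := Ideal.pow_le_self two_ne_zero (sub_linear_mem ρ t ht f)
    rw [RingHom.mem_ker, map_sub, map_add, map_sum, AlgHom.commutes] at h
    simp only [map_smul, ht, smul_zero, Finset.sum_const_zero, add_zero] at h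
    rw [sub_eq_zero] at h
    exact h
  have hmemV : ∀ f : MvPolynomial T A0, constantCoeff f = 0 → f ∈ V := fun f hf => by
    rw [← pow_one V, mem_pow_idealOfVars_iff']
    intro d hd
    obtain rfl := (Finsupp.degree_eq_zero_iff d).1 (by omega)
    exact hf
  have hK : IsNilpotent K := ⟨2, by
    rw [← Ideal.map_pow, Ideal.zero_eq_bot, eq_bot_iff, Ideal.map_le_iff_le_comap]
    intro f hf
    show Ideal.Quotient.mkₐ R (V ^ 2) f = 0
    refine Ideal.Quotient.eq_zero_iff_mem.2 (Ideal.pow_right_mono ?_ 2 hf)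
    intro g hg
    exact hmemV g ((hρπ g).symm.trans (Ideal.pow_le_self two_ne_zero hg))⟩
  let g0 : MvPolynomial T A0 →ₐ[R] (MvPolynomial T A0 ⧸ V ^ 2) ⧸ K :=
    (Ideal.Quotient.mkₐ R K).comp (Ideal.Quotient.mkₐ R (V ^ 2))
  have hg0 : RingHom.ker π.toRingHom ≤ RingHom.ker g0.toRingHom := fun f hf => by
    show Ideal.Quotient.mk K (Ideal.Quotient.mkₐ R (V ^ 2) f) = 0
    refine Ideal.Quotient.eq_zero_iff_mem.2 (Ideal.mem_map_of_mem _ ?_)
    show π f ∈ m ^ 2
    rw [show π f = 0 from hf]
    exact zero_mem _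
  let g : A →ₐ[R] (MvPolynomial T A0 ⧸ V ^ 2) ⧸ K :=
    { toRingHom := RingHom.liftOfSurjective π.toRingHom hπ ⟨g0.toRingHom, hg0⟩
      commutes' := fun r => by
        rw [← π.commutes r]
        exact (RingHom.congr_fun (RingHom.liftOfSurjective_comp π.toRingHom hπ ⟨g0.toRingHom, hg0⟩) (algebraMap R _ r)).trans
          (g0.commutes r) }
  obtain ⟨F, hF⟩ := Algebra.FormallySmooth.exists_lift K hK g
  choose rep hrep using fun a => Ideal.Quotient.mk_surjective (F a)
  have hcong : ∀ a, π (rep a) - a ∈ m ^ 2 := fun a => by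
    obtain ⟨f, rfl⟩ := hπ a
    have h : Ideal.Quotient.mk K (F (π f)) = g0 f := (AlgHom.congr_fun hF (π f)).trans
      (RingHom.congr_fun (RingHom.liftOfSurjective_comp π.toRingHom hπ ⟨g0.toRingHom, hg0⟩) f)
    rw [← hrep, show g0 f = Ideal.Quotient.mk K (Ideal.Quotient.mk (V ^ 2) f) from rfl, Ideal.Quotient.eq] at h
    obtain ⟨f', hf', e⟩ := (Ideal.mem_map_iff_of_surjective _ Ideal.Quotient.mk_surjective).1 h
    have he : Ideal.Quotient.mk (V ^ 2) f' = Ideal.Quotient.mk (V ^ 2) (rep (π f) - f) := e.trans (map_sub _ _ _).symm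
    rw [Ideal.Quotient.eq] at he
    have h1 : π (f' - (rep (π f) - f)) ∈ m ^ 2 :=
      (Ideal.map_le_iff_le_comap.1 (show (V ^ 2).map π ≤ m ^ 2 by
        rw [Ideal.map_pow]
        exact Ideal.pow_right_mono (Ideal.map_le_iff_le_comap.2 hπV) 2)) he
    have h2 := sub_mem (show π f' ∈ m ^ 2 from hf') h1
    rw [map_sub, sub_sub_cancel, map_sub] at h2
    exact h2
  have hlin : ∀ f f' : MvPolynomial T A0, Ideal.Quotient.mk (V ^ 2) f = Ideal.Quotient.mk (V ^ 2) f' →
      ∀ i, f.coeff (Finsupp.single i 1) = f'.coeff (Finsupp.single i 1) := fun f f' h i => by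
    rw [Ideal.Quotient.eq, mem_pow_idealOfVars_iff'] at h
    have := h (Finsupp.single i 1) (by rw [Finsupp.degree_single]; omega)
    rwa [coeff_sub, sub_eq_zero] at this
  have hrV : ∀ x ∈ m, rep x ∈ V := fun x hx => hmemV _ (by
    rw [← hρπ]
    have := (m.add_mem (Ideal.pow_le_self two_ne_zero (hcong x)) hx)
    rwa [sub_add_cancel] at this)
  let h : A → T → A0 := fun x i => (rep (x - algebraMap A0 A (ρ x))).coeff (Finsupp.single i 1)
  have hsub : ∀ x, x - algebraMap A0 A (ρ x) ∈ m := sub_mem_ker ρ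
  refine ⟨
    { toFun := h
      map_add' := fun x y => funext fun i => ?_
      map_smul' := fun c x => funext fun i => ?_ }, fun x hx => funext fun i => ?_, fun x hx => ?_⟩
  · show _ = h x i + h y i
    rw [← coeff_add]
    refine hlin _ _ ?_ i
    rw [map_add (Ideal.Quotient.mk (V ^ 2)), hrep, hrep, hrep, ← map_add F]
    congr 1
    rw [map_add ρ, map_add (algebraMap A0 A)]
    ring
  · show _ = c * h x i
    rw [← coeff_C_mul]
    refine hlin _ _ ?_ i
    have hc : rep (algebraMap A0 A c) - C c ∈ V := hmemV _ (by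
      have h1 : π (rep (algebraMap A0 A c)) - algebraMap A0 A c ∈ m := Ideal.pow_le_self two_ne_zero (hcong _)
      rw [RingHom.mem_ker, map_sub, hρπ, AlgHom.commutes, Algebra.algebraMap_self, RingHom.id_apply, sub_eq_zero] at h1
      rw [map_sub, constantCoeff_C, h1, sub_self])
    have h2 : Ideal.Quotient.mk (V ^ 2) (C c * rep (x - algebraMap A0 A (ρ x))) =
        Ideal.Quotient.mk (V ^ 2) (rep (algebraMap A0 A c) * rep (x - algebraMap A0 A (ρ x))) := by
      rw [Ideal.Quotient.eq, ← sub_mul, ← neg_sub, neg_mul, pow_two]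
      exact (V * V).neg_mem (Ideal.mul_mem_mul hc (hrV _ (hsub x)))
    rw [h2, map_mul, hrep, hrep, hrep, ← map_mul, mul_sub, map_smul, smul_eq_mul, map_mul, Algebra.smul_def]
  · show h x i = 0
    have hx1 : x - algebraMap A0 A (ρ x) = x := by
      rw [show ρ x = 0 from Ideal.pow_le_self two_ne_zero hx, map_zero, sub_zero]
    have h0 : F x = 0 := by
      refine (Ideal.span_le (I := RingHom.ker F)).2 ?_ (show x ∈ Ideal.span ((m ^ 2 : Ideal A) : Set A) by rwa [Ideal.span_eq])
      intro y hy
      rw [SetLike.mem_coe, pow_two] at hy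
      induction hy using Submodule.mul_induction_on' with
      | mem_mul_mem a ha b hb =>
        show F (a * b) = 0
        rw [map_mul, ← hrep a, ← hrep b, ← map_mul, Ideal.Quotient.eq_zero_iff_mem, pow_two]
        exact Ideal.mul_mem_mul (hrV a ha) (hrV b hb)
      | add a _ b _ ha hb => exact add_mem ha hb
    simp only [h, hx1]
    have := hlin (rep x) 0 (by rw [hrep, h0, map_zero]) i
    rwa [coeff_zero] at this
  · show x - ∑ i, h x i • t i ∈ m ^ 2
    have hx1 : x - algebraMap A0 A (ρ x) = x := by rw [show ρ x = 0 from hx, map_zero, sub_zero]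
    simp only [h, hx1]
    have h1 := sub_linear_mem ρ t ht (rep x)
    rw [show constantCoeff (rep x) = 0 by rw [← hρπ]; exact (by
      have := (m.add_mem (Ideal.pow_le_self two_ne_zero (hcong x)) hx); rwa [sub_add_cancel] at this), map_zero,
      zero_add] at h1
    have := sub_mem h1 (hcong x)
    have e : x - ∑ i, (rep x).coeff (Finsupp.single i 1) • t i =
        (aeval t (rep x) - ∑ i, (rep x).coeff (Finsupp.single i 1) • t i) - (π (rep x) - x) := by
      show _ = _ - (aeval t (rep x) - x)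
      ring
    rw [e]
    exact this

open SymmetricAlgebra in
/-- Injectivity of the symmetric algebra comparison. -/
theorem lift_injective [Algebra.FormallySmooth R A] {P : Type u} [AddCommGroup P] [Module A0 P]
    (s : P →ₗ[A0] A) (hs : ∀ p, ρ (s p) = 0) (hs2 : ∀ p, s p ∈ RingHom.ker ρ ^ 2 → p = 0)
    (σ : P →ₗ[A0] (T → A0)) (q : T → P) (hσ : ∀ p, ∑ i, σ p i • q i = p)
    (hsurj : Function.Surjective (lift s)) : Function.Injective (lift s) := by
  classical
  letI : Algebra R (SymmetricAlgebra A0 P) :=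
    ((algebraMap A0 (SymmetricAlgebra A0 P)).comp (algebraMap R A0)).toAlgebra
  haveI : IsScalarTower R A0 (SymmetricAlgebra A0 P) := IsScalarTower.of_algebraMap_eq fun _ => rfl
  set m := RingHom.ker ρ with hm
  set I := RingHom.ker (algebraMapInv (R := A0) (M := P)) with hI'
  let inc : SymmetricAlgebra A0 P →ₐ[A0] MvPolynomial T A0 :=
    lift ((∑ i, (LinearMap.proj i).smulRight (X i : MvPolynomial T A0)) ∘ₗ σ)
  have hinc : ∀ p, inc (ι A0 P p) = ∑ i, σ p i • X i := fun p => by simp [inc]
  have hret : (aeval fun i => ι A0 P (q i)).comp inc = AlgHom.id A0 _ := by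
    refine algHom_ext (LinearMap.ext fun p => ?_)
    show aeval _ (inc (ι A0 P p)) = ι A0 P p
    rw [hinc, map_sum]
    simp only [map_smul, aeval_X]
    conv_rhs => rw [← hσ p, map_sum]
    simp only [map_smul]
  have hincI : I.map inc ≤ idealOfVars T A0 := by
    rw [Ideal.map_le_iff_le_comap]
    intro z hz
    show inc z ∈ idealOfVars T A0
    rw [← pow_one (idealOfVars T A0), mem_pow_idealOfVars_iff']
    intro d hd
    obtain rfl := (Finsupp.degree_eq_zero_iff d).1 (by omega)
    have he : (aeval (fun _ : T => (0 : A0))).comp inc = algebraMapInv := algHom_ext (LinearMap.ext fun p => by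
      show aeval _ (inc (ι A0 P p)) = algebraMapInv (ι A0 P p)
      rw [hinc, map_sum, algebraMapInv_ι]
      exact Finset.sum_eq_zero fun i _ => by rw [map_smul, aeval_X, smul_zero])
    have h0 := AlgHom.congr_fun he z
    rw [show algebraMapInv z = 0 from hz] at h0
    rw [← constantCoeff_eq]
    rw [AlgHom.comp_apply, aeval_zero'] at h0
    simpa using h0
  have hι : ∀ p, ι A0 P p ∈ I := fun p => algebraMapInv_ι p
  have hdec : ∀ z, ∃ p, z - (algebraMap A0 _ (algebraMapInv z) + ι A0 P p) ∈ I ^ 2 := fun z => by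
    induction z using SymmetricAlgebra.induction with
    | algebraMap r => exact ⟨0, by rw [algebraMap_leftInverse P r, map_zero, add_zero, sub_self]; exact zero_mem _⟩
    | ι p => exact ⟨p, by rw [algebraMapInv_ι, map_zero, zero_add, sub_self]; exact zero_mem _⟩
    | mul a b ha hb =>
      obtain ⟨p, hp⟩ := ha
      obtain ⟨p', hp'⟩ := hb
      set c := algebraMapInv a
      set c' := algebraMapInv b
      refine ⟨c • p' + c' • p, ?_⟩
      have e : a * b - (algebraMap A0 _ (algebraMapInv (a * b)) + ι A0 P (c • p' + c' • p)) =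
          (a - (algebraMap A0 _ c + ι A0 P p)) * b + (algebraMap A0 _ c + ι A0 P p) * (b - (algebraMap A0 _ c' + ι A0 P p')) +
            ι A0 P p * ι A0 P p' := by
        rw [map_mul, map_mul, map_add, map_smul, map_smul, Algebra.smul_def, Algebra.smul_def]
        ring
      rw [e]
      refine add_mem (add_mem (Ideal.mul_mem_right _ _ hp) (Ideal.mul_mem_left _ _ hp')) ?_
      rw [pow_two]
      exact Ideal.mul_mem_mul (hι p) (hι p')
    | add a b ha hb =>
      obtain ⟨p, hp⟩ := ha
      obtain ⟨p', hp'⟩ := hb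
      refine ⟨p + p', ?_⟩
      convert add_mem hp hp' using 1
      rw [map_add, map_add, map_add]
      ring
  have hεπ : ρ.comp (lift s) = algebraMapInv := algHom_ext (LinearMap.ext fun p => by
    show ρ (lift s (ι A0 P p)) = algebraMapInv (ι A0 P p)
    rw [lift_ι_apply, hs, algebraMapInv_ι])
  have hIm : I.map (lift s) ≤ m := Ideal.map_le_iff_le_comap.2 fun z hz => by
    show ρ (lift s z) = 0
    exact (AlgHom.congr_fun hεπ z).trans hz
  have hker : ∀ z, lift s z = 0 → z ∈ I ^ 2 := fun z hz => by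
    obtain ⟨p, hp⟩ := hdec z
    have hz0 : algebraMapInv z = 0 := by rw [← AlgHom.congr_fun hεπ z, AlgHom.comp_apply, hz, map_zero]
    rw [hz0, map_zero, zero_add] at hp
    have h1 : lift s (z - ι A0 P p) ∈ m ^ 2 :=
      (Ideal.map_le_iff_le_comap.1 ((Ideal.map_pow _ I 2).trans_le (Ideal.pow_right_mono hIm 2))) hp
    rw [map_sub, hz, lift_ι_apply, zero_sub] at h1
    rw [hs2 p (by simpa using h1), map_zero, sub_zero] at hp
    exact hp
  suffices h : ∀ j, ∀ z, lift s z = 0 → z ∈ I ^ j by
    rw [injective_iff_map_eq_zero]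
    intro z hz
    have h0 : inc z = 0 := by
      ext e
      rw [coeff_zero]
      exact (mem_pow_idealOfVars_iff' _ _).1 ((Ideal.map_pow _ I _).trans_le (Ideal.pow_right_mono hincI _)
        (Ideal.mem_map_of_mem inc (h (Finsupp.degree e + 1) z hz))) e (Nat.lt_succ_self _)
    rw [← AlgHom.id_apply (R := A0) z, ← hret, AlgHom.comp_apply, h0, map_zero]
  intro j
  let π : SymmetricAlgebra A0 P →ₐ[R] A := (lift s).restrictScalars R
  have hπ : Function.Surjective π := hsurj
  set mk := Ideal.Quotient.mkₐ R (I ^ j) with hmk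
  let J : Ideal (SymmetricAlgebra A0 P ⧸ I ^ j) := (I ^ 2).map mk
  have hJ : IsNilpotent J := ⟨j, by
    rw [← Ideal.map_pow, Ideal.zero_eq_bot, eq_bot_iff, Ideal.map_le_iff_le_comap]
    intro x hx
    show mk x = 0
    exact Ideal.Quotient.eq_zero_iff_mem.2 (Ideal.pow_right_mono (Ideal.pow_le_self two_ne_zero) j hx)⟩
  let g0 : SymmetricAlgebra A0 P →ₐ[R] (SymmetricAlgebra A0 P ⧸ I ^ j) ⧸ J := (Ideal.Quotient.mkₐ R J).comp mk
  have hg0 : RingHom.ker π.toRingHom ≤ RingHom.ker g0.toRingHom := fun f hf => by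
    show Ideal.Quotient.mk J (mk f) = 0
    exact Ideal.Quotient.eq_zero_iff_mem.2 (Ideal.mem_map_of_mem mk (hker f hf))
  let g : A →ₐ[R] (SymmetricAlgebra A0 P ⧸ I ^ j) ⧸ J :=
    { toRingHom := RingHom.liftOfSurjective π.toRingHom hπ ⟨g0.toRingHom, hg0⟩
      commutes' := fun r => by
        rw [← π.commutes r]
        exact (RingHom.congr_fun (RingHom.liftOfSurjective_comp π.toRingHom hπ ⟨g0.toRingHom, hg0⟩) (algebraMap R _ r)).trans
          (g0.commutes r) }
  have hg : ∀ f, g (π f) = g0 f := fun f =>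
    RingHom.congr_fun (RingHom.liftOfSurjective_comp π.toRingHom hπ ⟨g0.toRingHom, hg0⟩) f
  obtain ⟨F, hF⟩ := Algebra.FormallySmooth.exists_lift J hJ g
  let θ := F.comp π
  have hθ2 : ∀ f, θ f - mk f ∈ J := fun f => by
    rw [← Ideal.Quotient.eq]
    exact (AlgHom.congr_fun hF (π f)).trans (hg f)
  have hJ1 : J ≤ I.map mk := Ideal.map_mono (Ideal.pow_le_self two_ne_zero)
  have hθm : ∀ k, ∀ f ∈ I ^ k, θ f ∈ (I ^ k).map mk ∧ θ f - mk f ∈ (I ^ (k + 1)).map mk := by
    intro k
    induction k with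
    | zero =>
      intro f _
      refine ⟨?_, by simpa using hJ1 (hθ2 f)⟩
      rw [pow_zero, Ideal.one_eq_top, Ideal.map_top]
      trivial
    | succ k ih =>
      intro f hf
      rw [pow_succ] at hf
      induction hf using Submodule.mul_induction_on' with
      | mem_mul_mem a ha b hb =>
        have hb' : θ b ∈ I.map mk := by
          have := (I.map mk).add_mem (hJ1 (hθ2 b)) (Ideal.mem_map_of_mem mk hb)
          simpa using this
        obtain ⟨h1, h2⟩ := ih a ha
        refine ⟨?_, ?_⟩
        · rw [map_mul, pow_succ, Ideal.map_mul]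
          exact Ideal.mul_mem_mul h1 hb'
        · have e : θ (a * b) - mk (a * b) = (θ a - mk a) * θ b + mk a * (θ b - mk b) := by
            rw [map_mul, map_mul]; ring
          rw [e]
          refine add_mem ?_ ?_
          · rw [pow_succ, Ideal.map_mul]
            exact Ideal.mul_mem_mul h2 hb'
          · rw [show k + 1 + 1 = k + 2 from rfl, pow_add, Ideal.map_mul]
            exact Ideal.mul_mem_mul (Ideal.mem_map_of_mem mk ha) (hθ2 b)
      | add a _ b _ iha ihb =>
        refine ⟨by rw [map_add]; exact add_mem iha.1 ihb.1, ?_⟩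
        rw [map_add, map_add, add_sub_add_comm]
        exact add_mem iha.2 ihb.2
  intro z hz
  suffices h : ∀ k ≤ j, z ∈ I ^ k from h j le_rfl
  intro k
  induction k with
  | zero => intro _; rw [pow_zero, Ideal.one_eq_top]; trivial
  | succ k ih =>
    intro hk
    have h1 := (hθm k z (ih (by omega))).2
    rw [show θ z = 0 by show F (π z) = 0; rw [show π z = 0 from hz, map_zero], zero_sub, neg_mem_iff] at h1
    obtain ⟨w, hw, e⟩ := (Ideal.mem_map_iff_of_surjective mk Ideal.Quotient.mk_surjective).1 h1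
    have e' := Ideal.pow_le_pow_right hk (Ideal.Quotient.eq.1 e)
    have := sub_mem hw e'
    rwa [sub_sub_cancel] at this

/-- The algebra is the symmetric algebra of its cotangent module. -/
theorem exists_symmetricAlgebra [Algebra.FormallySmooth R A] (ht : ∀ i, ρ (t i) = 0) (τ : A →ₗ[A0] (T → A0))
    (hτ0 : ∀ x ∈ RingHom.ker ρ ^ 2, τ x = 0) (hidem : ∀ x, τ (∑ i, τ x i • t i) = τ x)
    (hgen : ∀ B : Subalgebra A0 A, (∀ x, ∑ i, τ x i • t i ∈ B) → B = ⊤) :
    ∃ (P : Type u) (_ : AddCommGroup P) (_ : Module A0 P), Module.Finite A0 P ∧ Module.Projective A0 P ∧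
      Nonempty (A ≃ₐ[A0] SymmetricAlgebra A0 P) := by
  classical
  let e : (T → A0) →ₗ[A0] A := ∑ i, (LinearMap.proj i).smulRight (t i)
  have he : ∀ v, e v = ∑ i, v i • t i := fun v => by simp [e]
  let Q : Submodule A0 (T → A0) := LinearMap.range τ
  let s : Q →ₗ[A0] A := e.comp Q.subtype
  let pr : (T → A0) →ₗ[A0] Q := (τ.comp e).codRestrict Q fun v => ⟨e v, rfl⟩
  have hpr : pr.comp Q.subtype = LinearMap.id := LinearMap.ext fun ⟨v, x, hx⟩ => Subtype.ext (by
    subst hx
    show τ (e (τ x)) = τ x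
    rw [he, hidem])
  haveI : Module.Finite A0 Q := Module.Finite.of_surjective pr fun p => ⟨p, LinearMap.congr_fun hpr p⟩
  haveI : Module.Projective A0 Q := Module.Projective.of_split Q.subtype pr hpr
  have hs : ∀ p : Q, ρ (s p) = 0 := fun p => by
    show ρ (e (p : T → A0)) = 0
    rw [he, map_sum]
    exact Finset.sum_eq_zero fun i _ => by rw [map_smul, ht i, smul_zero]
  have hs2 : ∀ p : Q, s p ∈ RingHom.ker ρ ^ 2 → p = 0 := fun p hp => by
    obtain ⟨v, hv⟩ := p.2
    have h := hτ0 _ hp
    rw [show s p = e (τ v) by rw [hv]; rfl, he, hidem, hv] at h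
    exact Subtype.ext h
  have hsurj : Function.Surjective (SymmetricAlgebra.lift s) := fun a => by
    have h := hgen (SymmetricAlgebra.lift s).range fun x =>
      ⟨SymmetricAlgebra.ι A0 Q ⟨τ x, x, rfl⟩, (SymmetricAlgebra.lift_ι_apply s _).trans (he _)⟩
    have ha : a ∈ (SymmetricAlgebra.lift s).range := by rw [h]; trivial
    exact ha
  have hq : ∀ p : Q, ∑ i, Q.subtype p i • pr (Pi.single i 1) = p := fun p => by
    conv_rhs => rw [show p = pr (Q.subtype p) from (LinearMap.congr_fun hpr p).symm, pi_eq_sum_univ' (Q.subtype p)]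
    rw [map_sum]
    exact Finset.sum_congr rfl fun i _ => (map_smul pr _ _).symm
  have hinj : Function.Injective (SymmetricAlgebra.lift s) :=
    lift_injective (R := R) ρ s hs hs2 Q.subtype (fun i => pr (Pi.single i 1)) hq hsurj
  exact ⟨Q, inferInstance, inferInstance, inferInstance, inferInstance,
    ⟨(AlgEquiv.ofBijective (SymmetricAlgebra.lift s) ⟨hinj, hsurj⟩).symm⟩⟩

end SmoothConeLib
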